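import Mathlib
import Cfsg.Agent.S4009
import Cfsg.Agent.S0012
import Cfsg.Agent.H511.Wt.Dser
import Cfsg.Agent.FastGrp
import Cfsg.Agent.Prune
set_option linter.all false
prune_inst 0x7f00000000000000000000000000000000000000000000000000000000000000000000000000000000000000000000000000000000000000000000000000000000000000000000000000000000000000003fffffffffffffffffffffffffffbeffbdffffffff
open scoped Cfsg.Agent.FastGrp

/-!
# Order recursion for derived lengths: `q`-groups (helper57)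
-/

set_option autoImplicit false
set_option linter.style.haveILetI false
set_option linter.unusedSectionVars false

namespace Cfsg.Agent.DS.Ord

open Subgroup Cfsg.Agent.H511.Wt
open scoped commutatorElement

section abstract

variable {P : Type*} [Group P] [Finite P] {q : ℕ} [hq : Fact q.Prime]

/-- P. Hall's bound for the orders of the derived subgroups -/
theorem hall_sum (hP : IsPGroup q P) {d : ℕ} (hd : derivedSeries P d ≠ ⊥) (i : ℕ) :
    ∀ l, l + i = d → q ^ (2 ^ d + d + 1) ≤ q ^ (2 ^ l + l) * Nat.card (derivedSeries P l) := by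
  induction i with
  | zero =>
    intro l hl
    obtain rfl : l = d := by omega
    have h1 := S4009.card_of_lt hP (bot_lt_iff_ne_bot.mpr hd)
    rw [card_bot, mul_one] at h1
    rw [pow_succ]
    exact Nat.mul_le_mul_left _ h1
  | succ i ih =>
    intro l hl
    have h1 := ih (l + 1) (by omega)
    have hne : derivedSeries P (l + 1) ≠ ⊥ := by
      intro h0
      apply hd
      have h2 := derivedSeries_antitone P (show l + 1 ≤ d by omega)
      rw [h0] at h2
      exact le_bot_iff.1 h2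
    have h2 := S4009.hall_bound hP (derivedSeries_normal P l) (S4009.derived_le_gam l)
      (by rw [← derivedSeries_succ]; exact hne)
    have h3 : 1 ≤ 2 ^ l := Nat.one_le_two_pow
    have e : 2 ^ l - 1 + 2 = 2 ^ l + 1 := by omega
    rw [e, ← derivedSeries_succ] at h2
    refine h1.trans ?_
    calc q ^ (2 ^ (l + 1) + (l + 1)) * Nat.card (derivedSeries P (l + 1))
        = q ^ (2 ^ l + l) * (q ^ (2 ^ l + 1) * Nat.card (derivedSeries P (l + 1))) := by
          rw [← mul_assoc, ← pow_add]; congr 2; ring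
      _ ≤ _ := Nat.mul_le_mul_left _ h2

/-- complements modulo the Frattini subgroup -/
theorem exists_compl (hP : IsPGroup q P) (U : Subgroup P) :
    ∃ W : Subgroup P, frattini P ≤ W ∧ W ⊓ U ≤ frattini P ∧ W ⊔ U = ⊤ := by
  obtain ⟨hc, hpow⟩ := S0012.result q hP
  obtain ⟨W, hW⟩ := (Set.toFinite {W : Subgroup P | frattini P ≤ W ∧ W ⊓ U ≤ frattini P}).exists_maximal
    ⟨frattini P, le_rfl, inf_le_left⟩
  refine ⟨W, hW.prop.1, hW.prop.2, ?_⟩
  rw [eq_top_iff]
  intro x _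
  by_contra hx
  haveI hWn : W.Normal := Subgroup.Normal.of_commutator_le P (hc.trans hW.prop.1)
  have h1 : zpowers x ⊔ W ≤ W := by
    refine hW.le_of_ge ⟨hW.prop.1.trans le_sup_right, ?_⟩ le_sup_right
    rintro y ⟨hy, hyU⟩
    obtain ⟨_, ⟨i, rfl⟩, w, hw, rfl⟩ := mem_sup_of_normal_right.1 hy
    have h2 : x ^ i ∈ W ⊔ U := by
      have h3 : x ^ i = x ^ i * w * w⁻¹ := by group
      rw [h3]
      exact (W ⊔ U).mul_mem (mem_sup_right hyU) (mem_sup_left (W.inv_mem hw))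
    by_cases hi : (q : ℤ) ∣ i
    · obtain ⟨c, rfl⟩ := hi
      refine hW.prop.2 ⟨W.mul_mem ?_ hw, hyU⟩
      change x ^ ((q : ℤ) * c) ∈ W
      rw [zpow_mul, zpow_natCast]
      exact W.zpow_mem (hW.prop.1 (hpow x)) c
    · exfalso
      obtain ⟨s, t, hst⟩ := ((Nat.prime_iff_prime_int.1 hq.out).irreducible.coprime_iff_not_dvd).2 hi
      apply hx
      have h3 : x = (x ^ q) ^ s * (x ^ i) ^ t := by
        rw [← zpow_natCast, ← zpow_mul, ← zpow_mul, ← zpow_add, mul_comm (q : ℤ) s, mul_comm i t, hst, zpow_one]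
      rw [h3]
      exact (W ⊔ U).mul_mem ((W ⊔ U).zpow_mem (mem_sup_left (hW.prop.1 (hpow x))) s) ((W ⊔ U).zpow_mem h2 t)
  exact hx (mem_sup_left (h1 (mem_sup_left (mem_zpowers x))))

theorem dser_two_le {G : Type*} [Group G] {W D : Subgroup G} [D.Normal] (hWD : W ⊔ D = ⊤)
    (hD : D ≤ centralizer (dser (⊤ : Subgroup G) 1 : Set G)) : dser (⊤ : Subgroup G) 2 ≤ dser W 2 := by
  have h1 : ∀ x ∈ dser (⊤ : Subgroup G) 1, ∃ w ∈ dser W 1, ∃ δ ∈ D, w * δ = x := by
    intro x hx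
    refine mem_sup_of_normal_right.1 ?_
    revert x
    change ⁅(⊤ : Subgroup G), ⊤⁆ ≤ dser W 1 ⊔ D
    rw [commutator_le]
    intro x _ y _
    have hx : x ∈ W ⊔ D := by rw [hWD]; exact mem_top x
    have hy : y ∈ W ⊔ D := by rw [hWD]; exact mem_top y
    obtain ⟨w1, hw1, d1, hd1, rfl⟩ := mem_sup_of_normal_right.1 hx
    obtain ⟨w2, hw2, d2, hd2, rfl⟩ := mem_sup_of_normal_right.1 hy
    have h2 : ⁅w1, w2⁆⁻¹ * ⁅w1 * d1, w2 * d2⁆ ∈ D := by
      rw [← QuotientGroup.eq]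
      change QuotientGroup.mk' D _ = QuotientGroup.mk' D _
      have e1 : QuotientGroup.mk' D d1 = 1 := (QuotientGroup.eq_one_iff d1).2 hd1
      have e2 : QuotientGroup.mk' D d2 = 1 := (QuotientGroup.eq_one_iff d2).2 hd2
      rw [map_commutatorElement, map_commutatorElement, map_mul, map_mul, e1, e2, mul_one, mul_one]
    have h3 : ⁅w1 * d1, w2 * d2⁆ = ⁅w1, w2⁆ * (⁅w1, w2⁆⁻¹ * ⁅w1 * d1, w2 * d2⁆) := by
      rw [mul_inv_cancel_left]
    rw [h3]
    exact (dser W 1 ⊔ D).mul_mem (mem_sup_left (commutator_mem_commutator hw1 hw2)) (mem_sup_right h2)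
  change ⁅dser (⊤ : Subgroup G) 1, dser (⊤ : Subgroup G) 1⁆ ≤ ⁅dser W 1, dser W 1⁆
  rw [commutator_le]
  intro x hx y hy
  obtain ⟨w1, hw1, d1, hd1, rfl⟩ := h1 x hx
  obtain ⟨w2, hw2, d2, hd2, rfl⟩ := h1 y hy
  have c1 : w2 * d2 * d1 = d1 * (w2 * d2) := mem_centralizer_iff.1 (hD hd1) _ hy
  have c2 : w1 * d2 = d2 * w1 := mem_centralizer_iff.1 (hD hd2) _ (dser_mono le_top 1 hw1)
  have h2 : ⁅w1 * d1, w2 * d2⁆ = ⁅w1, w2⁆ := by
    rw [commutatorElement_def, commutatorElement_def]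
    calc w1 * d1 * (w2 * d2) * (w1 * d1)⁻¹ * (w2 * d2)⁻¹
        = w1 * (d1 * (w2 * d2)) * d1⁻¹ * w1⁻¹ * (w2 * d2)⁻¹ := by group
      _ = w1 * (w2 * d2 * d1) * d1⁻¹ * w1⁻¹ * (w2 * d2)⁻¹ := by rw [c1]
      _ = w1 * w2 * w1⁻¹ * (w1 * d2) * w1⁻¹ * d2⁻¹ * w2⁻¹ := by group
      _ = w1 * w2 * w1⁻¹ * (d2 * w1) * w1⁻¹ * d2⁻¹ * w2⁻¹ := by rw [c2]
      _ = w1 * w2 * w1⁻¹ * w2⁻¹ := by group
  rw [h2]
  exact commutator_mem_commutator hw1 hw2

/-- the part of `P / Φ(P)` covered by the centralizer of `P'` is small -/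
theorem cent_part (hP : IsPGroup q P) {a u d : ℕ} (ha : Nat.card P = q ^ a) (D : Subgroup P) [D.Normal]
    (hD : D ≤ centralizer (dser (⊤ : Subgroup P) 1 : Set P)) (hu : (frattini P).relIndex (D ⊔ frattini P) = q ^ u)
    (hd : derivedSeries P d ≠ ⊥) (hd' : derivedSeries P (d + 1) = ⊥) (h2 : 2 ≤ d) : u + (2 ^ d + 2 * d) ≤ a + 2 := by
  obtain ⟨W, h1, h3, h4⟩ := exists_compl hP (D ⊔ frattini P)
  have h5 : W ⊔ D = ⊤ := by
    rw [eq_top_iff, ← h4]
    exact sup_le le_sup_left (sup_le le_sup_right (h1.trans le_sup_left))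
  have h6 := dser_two_le h5 hD
  obtain ⟨w, hw⟩ := IsPGroup.iff_card.1 (hP.to_subgroup W)
  have h7 : derivedSeries W d ≠ ⊥ := by
    rw [Ne, ← dser_eq_bot_iff]
    intro h
    apply hd
    obtain ⟨i, rfl⟩ : ∃ i, d = 2 + i := ⟨d - 2, by omega⟩
    rw [← dser_top, eq_bot_iff, ← h, ← dser_dser, ← dser_dser]
    exact dser_mono h6 i
  have h8 : derivedSeries W (d + 1) = ⊥ := by
    rw [← dser_eq_bot_iff, eq_bot_iff, ← hd', ← dser_top]
    exact dser_mono le_top _
  have h9 := S4009.result q w d hw h7 h8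
  have h10 : q ^ u ≤ W.index := by
    rw [← hu]
    have e : frattini P = W ⊓ (D ⊔ frattini P) := le_antisymm (le_inf h1 le_sup_right) h3
    conv_lhs => lhs; rw [e]
    rw [inf_relIndex_right, ← relIndex_top_right]
    exact relIndex_le_of_le_right le_top (by rw [relIndex_top_right]; exact index_ne_zero_of_finite)
  have h11 : q ^ (w + u) ≤ q ^ a := by
    rw [pow_add, ← ha, ← W.card_mul_index, hw]
    exact Nat.mul_le_mul_left _ h10
  have h12 := (Nat.pow_le_pow_iff_right hq.out.one_lt).1 h11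
  omega

end abstract

section ambient

variable {Y : Type*} [Group Y]

/-- the Frattini subgroup of `R`, in the ambient group -/
def phi (R : Subgroup Y) : Subgroup Y := (frattini R).map R.subtype

theorem phi_le (R : Subgroup Y) : phi R ≤ R := map_subtype_le _

theorem phi_normal (R : Subgroup Y) [R.Normal] : (phi R).Normal :=
  ConjAct.normal_of_characteristic_of_normal

variable [Finite Y] {q : ℕ} [hq : Fact q.Prime]

theorem comm_le_phi {R : Subgroup Y} (hR : IsPGroup q R) : dser R 1 ≤ phi R := by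
  rw [dser_eq_map]
  exact map_mono (S0012.result q hR).1

theorem card_dser (R : Subgroup Y) (n : ℕ) : Nat.card (dser R n) = Nat.card (derivedSeries R n) := by
  rw [dser_eq_map, card_map_of_injective R.subtype_injective]

theorem card_mul_relIndex {C T : Subgroup Y} (h : C ≤ T) : Nat.card C * C.relIndex T = Nat.card T := by
  have h7 := card_mul_index (C.subgroupOf T)
  rwa [Nat.card_congr (subgroupOfEquivOfLe h).toEquiv] at h7

theorem relIndex_pow {C T : Subgroup Y} (hT : IsPGroup q T) : ∃ j, C.relIndex T = q ^ j := by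
  obtain ⟨a, ha⟩ := IsPGroup.iff_card.1 hT
  have h1 := relIndex_dvd_card C T
  rw [ha] at h1
  obtain ⟨j, _, hj⟩ := (Nat.dvd_prime_pow hq.out).1 h1
  exact ⟨j, hj⟩

theorem hall_amb {R : Subgroup Y} (hR : IsPGroup q R) {d l : ℕ} (hd : dser R d ≠ ⊥) (hl : l ≤ d) :
    q ^ (2 ^ d + d + 1) ≤ q ^ (2 ^ l + l) * Nat.card (dser R l) := by
  rw [card_dser]
  exact hall_sum hR (by rwa [Ne, ← dser_eq_bot_iff]) (d - l) l (by omega)

/-- the numerical constraints on `(a, k, d)` -/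
theorem feas {R : Subgroup Y} (hR : IsPGroup q R) {a k d : ℕ} (ha : Nat.card R = q ^ a)
    (hk : (phi R).relIndex R = q ^ k) (hd : dser R d ≠ ⊥) (hd' : dser R (d + 1) = ⊥) :
    k ≤ a ∧ 2 ^ d + 2 * d ≤ a + 2 ∧ 2 ^ d + d + k ≤ a + 2 := by
  have h1 := card_mul_relIndex (phi_le R)
  rw [hk, ha] at h1
  have h2 : k ≤ a := (Nat.pow_dvd_pow_iff_le_right hq.out.one_lt).1 ⟨_, by rw [← h1, mul_comm]⟩
  refine ⟨h2, S4009.result q a d ha (by rwa [Ne, ← dser_eq_bot_iff]) (by rwa [← dser_eq_bot_iff]), ?_⟩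
  rcases Nat.eq_zero_or_pos d with rfl | hpos
  · omega
  have h3 := hall_amb hR hd hpos
  have h4 : Nat.card (dser R 1) ≤ Nat.card (phi R) := card_le_of_le (comm_le_phi hR)
  have h5 : q ^ (2 ^ d + d + 1 + k) ≤ q ^ (3 + a) := by
    rw [pow_add, pow_add q 3 a, ← h1, ← mul_assoc]
    exact Nat.mul_le_mul_right _ (h3.trans (Nat.mul_le_mul_left _ h4))
  have h6 := (Nat.pow_le_pow_iff_right hq.out.one_lt).1 h5
  omega

/-- the rank of `R'` -/
theorem feas_one {R : Subgroup Y} (hR : IsPGroup q R) {a k d k1 : ℕ} (ha : Nat.card R = q ^ a)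
    (hk : (phi R).relIndex R = q ^ k) (hd : dser R d ≠ ⊥) (h2 : 2 ≤ d)
    (hk1 : (phi (dser R 1)).relIndex (dser R 1) = q ^ k1) : k1 + (k + 2 ^ d + d) ≤ a + 5 := by
  have h1 := card_mul_relIndex (phi_le R)
  rw [hk, ha] at h1
  have h1' := card_mul_relIndex (phi_le (dser R 1))
  rw [hk1] at h1'
  have hR1 : IsPGroup q (dser R 1) := hR.to_le (dser_le R 1)
  have h3 := hall_amb hR hd h2
  have h4 : Nat.card (dser R 1) ≤ Nat.card (phi R) := card_le_of_le (comm_le_phi hR)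
  have h4' : Nat.card (dser R 2) ≤ Nat.card (phi (dser R 1)) := by
    have := comm_le_phi hR1
    rw [dser_dser] at this
    exact card_le_of_le this
  have h5 : q ^ (2 ^ d + d + 1 + k1 + k) ≤ q ^ (6 + a) := by
    rw [pow_add, pow_add q 6 a, ← h1, ← mul_assoc]
    refine Nat.mul_le_mul_right _ ?_
    rw [pow_add]
    calc q ^ (2 ^ d + d + 1) * q ^ k1 ≤ q ^ 6 * Nat.card (dser R 2) * q ^ k1 := Nat.mul_le_mul_right _ h3
      _ ≤ q ^ 6 * Nat.card (phi (dser R 1)) * q ^ k1 := Nat.mul_le_mul_right _ (Nat.mul_le_mul_left _ h4')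
      _ = q ^ 6 * Nat.card (dser R 1) := by rw [mul_assoc, h1']
      _ ≤ _ := Nat.mul_le_mul_left _ h4
  have h6 := (Nat.pow_le_pow_iff_right hq.out.one_lt).1 h5
  omega

/-- the part of `R / Φ(R)` covered by the centralizer of `R'` -/
theorem feas_cent {R : Subgroup Y} [R.Normal] (hR : IsPGroup q R) {a u d : ℕ} (ha : Nat.card R = q ^ a)
    (hu : (phi R).relIndex ((centralizer (dser R 1 : Set Y) ⊓ R) ⊔ phi R) = q ^ u)
    (hd : dser R d ≠ ⊥) (hd' : dser R (d + 1) = ⊥) (h2 : 2 ≤ d) : u + (2 ^ d + 2 * d) ≤ a + 2 := by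
  haveI : (centralizer (dser R 1 : Set Y)).Normal := inferInstance
  refine cent_part hR ha ((centralizer (dser R 1 : Set Y)).subgroupOf R) ?_ ?_ (by rwa [Ne, ← dser_eq_bot_iff])
    (by rwa [← dser_eq_bot_iff]) h2
  · intro x hx
    rw [mem_centralizer_iff]
    intro y hy
    apply Subtype.ext
    refine mem_centralizer_iff.1 (mem_subgroupOf.1 hx) y ?_
    rw [dser_eq_map, ← dser_top]
    exact ⟨y, hy, rfl⟩
  · rw [← hu, ← relIndex_map_map_of_injective _ _ R.subtype_injective, Subgroup.map_sup, subgroupOf_map_subtype]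
    rfl

end ambient

end Cfsg.Agent.DS.Ord
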